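import Cfsg.Prelude.Def_Transfer
import Cfsg.Agent.S0191
import Cfsg.Agent.S0907
import Cfsg.Agent.Blocks.Basic
import Cfsg.Agent.Blocks.LocalRing
import Cfsg.Agent.Blocks.ExistsModular
import Cfsg.Agent.Characters.Core
import Cfsg.Agent.Characters.Linear
import Cfsg.Agent.Transfer.TateComplement
import Mathlib.Tactic

/-!
# Vanishing elements and principal blocks (CFSG free)

If no conjugacy class on which some irreducible character vanishes has size divisible by `p`,
then the principal `p`-block consists of linear characters, hence `p` does not divide the order of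
the commutator subgroup.
-/

set_option autoImplicit false

open Cfsg

namespace Cfsg.Agent.H404.VanishBlock

open scoped ComplexConjugate

variable {G : Type*} [Group G]

/-- An irreducible character without zeros is linear (Burnside). -/
theorem linear_of_ne_zero [Finite G] {χ : G → ℂ} (hχ : IsIrrCharacter G χ) (h : ∀ x, χ x ≠ 0) :
    χ 1 = 1 := by
  obtain ⟨n, ρ, hρ, rfl⟩ := hχ
  have h1 : ρ.character 1 = (n : ℂ) := by
    rw [Representation.char_one]
    simp
  by_contra hne
  have hn1 : n ≠ 1 := by
    rintro rfl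
    exact hne (by rw [h1]; simp)
  have hn0 : n ≠ 0 := by
    rintro rfl
    exact h 1 (by rw [h1]; simp)
  have := hρ
  obtain ⟨g, hg⟩ := Cfsg.Agent.S0191.result ρ (by
    rw [Module.finrank_fin_fun]; omega)
  exact h g hg

/-- A character `χ` in the block of `ψ`, where `ψ` is linear, does not vanish at `x` if the class
of `x` has size prime to `p`. -/
theorem ne_zero_of_principal {p : ℕ} {M : Ideal AlgInt} (hM : IsPModular p M)
    {χ : IrrCharacter G} (hχ : χ ∈ principalBlock M G) {x : G}
    (hx : ¬ p ∣ (Subgroup.centralizer ({x} : Set G)).index) : (χ : G → ℂ) x ≠ 0 := by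
  intro h0
  have h1 := hχ x
  have h2 : centralChar (χ : G → ℂ) x = 0 := by
    simp [centralChar, h0]
  have h3 : centralChar (fun _ : G => (1 : ℂ)) x =
      (((Subgroup.centralizer ({x} : Set G)).index : ℕ) : ℂ) := by
    simp [centralChar]
  rw [h2, h3, sub_zero] at h1
  exact hx ((Cfsg.Agent.Blocks.LocalRing.memLocalIdeal_natCast_iff hM _).1 h1)

/-- **The key point.** If `p` divides no size of a vanishing class, then the principal `p`-block
consists of linear characters. -/
theorem linear_of_principal [Finite G] {p : ℕ} {M : Ideal AlgInt} (hM : IsPModular p M)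
    (h : ∀ x : G, (∃ χ : IrrCharacter G, (χ : G → ℂ) x = 0) →
      ¬ p ∣ (Subgroup.centralizer ({x} : Set G)).index)
    {χ : IrrCharacter G} (hχ : χ ∈ principalBlock M G) : (χ : G → ℂ) 1 = 1 :=
  linear_of_ne_zero χ.2 fun x hx => ne_zero_of_principal hM hχ (h x ⟨χ, hx⟩) hx

/-- Version with two primes: if no vanishing class has size divisible by `p * q`, then the
characters lying in the principal `p`-block and in the principal `q`-block are linear. -/
theorem linear_of_principal_two [Finite G] {p q : ℕ} (hpq : p.Coprime q) {M M' : Ideal AlgInt}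
    (hM : IsPModular p M) (hM' : IsPModular q M')
    (h : ∀ x : G, (∃ χ : IrrCharacter G, (χ : G → ℂ) x = 0) →
      ¬ p * q ∣ (Subgroup.centralizer ({x} : Set G)).index)
    {χ : IrrCharacter G} (hχ : χ ∈ principalBlock M G) (hχ' : χ ∈ principalBlock M' G) :
    (χ : G → ℂ) 1 = 1 := by
  refine linear_of_ne_zero χ.2 fun x hx => ?_
  by_cases hp : p ∣ (Subgroup.centralizer ({x} : Set G)).index
  · by_cases hq : q ∣ (Subgroup.centralizer ({x} : Set G)).index
    · exact h x ⟨χ, hx⟩ (hpq.mul_dvd_of_dvd_of_dvd hp hq)
    · exact ne_zero_of_principal hM' hχ' hq hx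
  · exact ne_zero_of_principal hM hχ hp hx

/-- If the principal `p`-block consists of linear characters then the commutator subgroup has order
prime to `p`. -/
theorem not_dvd_card_commutator [Finite G] {p : ℕ} [Fact p.Prime] {M : Ideal AlgInt}
    (hM : IsPModular p M) (h : ∀ χ : IrrCharacter G, χ ∈ principalBlock M G → (χ : G → ℂ) 1 = 1) :
    ¬ p ∣ Nat.card (commutator G) := by
  intro hp
  obtain ⟨⟨y, hyc⟩, hy⟩ := exists_prime_orderOf_dvd_card' (G := commutator G) p hp
  have hy' : orderOf y = p := by
    rw [← hy, Subgroup.orderOf_mk]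
  have hblock : IsPBlock M (principalBlock M G) :=
    ⟨⟨fun _ => 1, Cfsg.Agent.Blocks.Basic.isIrrCharacter_one⟩, rfl⟩
  have h1 := Cfsg.Agent.S0907.result p M hM (principalBlock M G) hblock 1 y
    (by rw [orderOf_one]; exact (Fact.out : p.Prime).one_lt.ne' ∘ Nat.dvd_one.1)
    (by rw [hy'])
  have h2 : ∀ χ ∈ principalBlock M G, (χ : G → ℂ) 1 * conj ((χ : G → ℂ) y) = 1 := by
    intro χ hχ
    have hχ1 := h χ hχ
    obtain ⟨f, hf⟩ := Cfsg.Agent.Characters.Linear.exists_hom_of_isIrrCharacter χ.2 hχ1
    have hfy : f y = 1 := by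
      have := Abelianization.commutator_subset_ker f hyc
      exact this
    rw [hχ1, hf]
    simp [hfy]
  rw [finsum_mem_congr rfl h2] at h1
  have hI : Finite (IrrCharacter G) := Cfsg.Agent.Characters.Core.finite_irr
  have hfin : (principalBlock M G).Finite := Set.toFinite _
  rw [finsum_mem_eq_finite_toFinset_sum _ hfin] at h1
  simp only [Finset.sum_const, nsmul_eq_mul, mul_one] at h1
  have h3 : hfin.toFinset = ∅ := by
    rw [← Finset.card_eq_zero]
    exact_mod_cast h1
  have h4 : (⟨fun _ => 1, Cfsg.Agent.Blocks.Basic.isIrrCharacter_one⟩ : IrrCharacter G) ∈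
      hfin.toFinset := by
    rw [Set.Finite.mem_toFinset]
    have hprime : M.IsPrime := hM.2.1.isPrime
    exact Cfsg.Agent.Blocks.Basic.mem_blockOf.2
      (Cfsg.Agent.Blocks.Basic.sameBlock_refl (fun _ : G => (1 : ℂ)))
  rw [h3] at h4
  exact absurd h4 (Finset.notMem_empty _)

/-- If `p` does not divide the order of the commutator subgroup, then there is a normal
`p`-complement and the Sylow `p`-subgroups are abelian. -/
theorem hnc_of_commutator [Finite G] {p : ℕ} [Fact p.Prime]
    (h : ¬ p ∣ Nat.card (commutator G)) :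
    HasNormalPComplement p G ∧ ∀ P : Sylow p G, IsMulCommutative (P : Subgroup G) := by
  have hpp : p.Prime := Fact.out
  constructor
  · have hA : Finite (Abelianization G) :=
      Finite.of_surjective (QuotientGroup.mk' (commutator G)) (QuotientGroup.mk'_surjective _)
    set c := Nat.card (Abelianization G) with hc
    have hc0 : c ≠ 0 := Nat.card_pos.ne'
    set m := c / p ^ c.factorization p with hm
    have hm1 : p ^ c.factorization p * m = c := Nat.ordProj_mul_ordCompl_eq_self c p
    have hpm : ¬ p ∣ m := Nat.not_dvd_ordCompl hpp hc0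
    let f : G →* Abelianization G := (powMonoidHom m).comp Abelianization.of
    have hf : ∀ g, g ∈ f.ker ↔ g ^ m ∈ commutator G := by
      intro g
      rw [MonoidHom.mem_ker]
      have : f g = Abelianization.of (g ^ m) := by
        simp [f]
      rw [this, ← MonoidHom.mem_ker, Abelianization.ker_of]
    have hcard : ¬ p ∣ Nat.card f.ker := by
      intro hd
      obtain ⟨⟨y, hyc⟩, hy⟩ := exists_prime_orderOf_dvd_card' (G := f.ker) p hd
      have hy' : orderOf y = p := by
        rw [← hy, Subgroup.orderOf_mk]
      rw [hf] at hyc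
      have hco : (orderOf y).Coprime m := by
        rw [hy']
        exact (Nat.Prime.coprime_iff_not_dvd hpp).2 hpm
      have hym : orderOf (y ^ m) = p := by
        rw [← hy']
        exact hco.orderOf_pow
      apply h
      have h2 : orderOf (⟨y ^ m, hyc⟩ : commutator G) ∣ Nat.card (commutator G) :=
        orderOf_dvd_natCard _
      rwa [Subgroup.orderOf_mk, hym] at h2
    have hind : ∃ n, f.ker.index = p ^ n := by
      have hpg : IsPGroup p (G ⧸ f.ker) := by
        intro x
        obtain ⟨g, rfl⟩ := QuotientGroup.mk_surjective x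
        refine ⟨c.factorization p, ?_⟩
        rw [← QuotientGroup.mk_pow, QuotientGroup.eq_one_iff, hf, ← pow_mul, hm1]
        rw [← Abelianization.ker_of, MonoidHom.mem_ker, map_pow, hc]
        exact pow_card_eq_one'
      rw [Subgroup.index_eq_card]
      exact (IsPGroup.iff_card).1 hpg
    obtain ⟨P⟩ : Nonempty (Sylow p G) := inferInstance
    exact ⟨P, f.ker, inferInstance,
      Cfsg.Agent.Transfer.TateComplement.isComplement'_sylow_of_index f.ker hcard hind P⟩
  · intro P
    refine ⟨⟨fun x y => ?_⟩⟩
    have h1 : x * y * x⁻¹ * y⁻¹ = 1 := by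
      have hc : (x * y * x⁻¹ * y⁻¹ : (P : Subgroup G)).1 ∈ commutator G := by
        rw [← Abelianization.ker_of, MonoidHom.mem_ker]
        simp
      obtain ⟨k, hk⟩ := P.isPGroup' (x * y * x⁻¹ * y⁻¹)
      have h2 : orderOf (x * y * x⁻¹ * y⁻¹ : (P : Subgroup G)).1 ∣ p ^ k := by
        rw [orderOf_dvd_iff_pow_eq_one]
        exact congrArg Subtype.val hk
      have h3 : orderOf (x * y * x⁻¹ * y⁻¹ : (P : Subgroup G)).1 ∣ Nat.card (commutator G) := by
        have : orderOf (⟨_, hc⟩ : commutator G) ∣ Nat.card (commutator G) := orderOf_dvd_natCard _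
        rwa [Subgroup.orderOf_mk] at this
      have h4 : orderOf (x * y * x⁻¹ * y⁻¹ : (P : Subgroup G)).1 = 1 := by
        have hco : (p ^ k).Coprime (Nat.card (commutator G)) :=
          Nat.Coprime.pow_left k ((Nat.Prime.coprime_iff_not_dvd hpp).2 h)
        exact Nat.eq_one_of_dvd_coprimes hco h2 h3
      rw [orderOf_eq_one_iff] at h4
      exact Subtype.ext h4
    have h5 : x * y * (y * x)⁻¹ = 1 := by
      rw [← h1]
      group
    exact mul_inv_eq_one.1 h5

/-- **S5008.** -/
theorem main [Finite G] (p : ℕ) [Fact p.Prime]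
    (h : ∀ x : G, (∃ χ : IrrCharacter G, (χ : G → ℂ) x = 0) →
      ¬ p ∣ (Subgroup.centralizer ({x} : Set G)).index) :
    HasNormalPComplement p G ∧ ∀ P : Sylow p G, IsMulCommutative (P : Subgroup G) := by
  obtain ⟨M, hM⟩ := Cfsg.Agent.Blocks.ExistsModular.exists_isPModular (Fact.out : p.Prime)
  exact hnc_of_commutator (not_dvd_card_commutator hM fun χ hχ => linear_of_principal hM h hχ)

end Cfsg.Agent.H404.VanishBlock
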