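import Mathlib

/-!
# Same-order element counts and the normaliser of a self-centralising Sylow subgroup of prime order

`M`, `G` finite groups of the same order, `p` an odd prime with `p ∣ |M|`, `¬ p² ∣ |M|`.

* `card_orderOf_of_nse`: if `M` has self-centralising Sylow `p`-subgroups and `G` has the same set
  of same-order element counts as `M` (as in `S3592`) then the number of elements of order `p` of
  `G` is the one of `M`;
* `card_normalizer_of_nse`: hence `|N_G(P)| = |N_M(Q)|`;
* `isSimpleGroup_of_nse`: if moreover `|N_M(Q)| = p r`, `r < p` a prime with `¬ r² ∣ |G|`, no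
  `s ^ a ∣ |G|`, `a ≥ 1`, `s ≠ p, r` prime, is congruent to `1` modulo `p`, and some such `s`
  divides `|G|`, then `G` is simple.
-/

set_option autoImplicit false

namespace Cfsg.Agent.H404.Nse

open Subgroup MulAction

/-- The number of elements of order `n`. -/
noncomputable abbrev cnt (G : Type*) [Group G] (n : ℕ) : ℕ := Nat.card {g : G // orderOf g = n}

section Sylow

variable {G : Type*} [Group G] [Finite G]

/-- `P` of order `p`, of index prime to `p` -/
theorem card_sylow_eq {p : ℕ} [hp : Fact p.Prime] (h1 : p ∣ Nat.card G) (h2 : ¬ p ^ 2 ∣ Nat.card G)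
    (P : Sylow p G) : Nat.card P = p := by
  rw [P.card_eq_multiplicity]
  have hne : Nat.card G ≠ 0 := Nat.card_pos.ne'
  have h3 : 1 ≤ (Nat.card G).factorization p := (hp.out.dvd_iff_one_le_factorization hne).1 h1
  have h4 : (Nat.card G).factorization p < 2 := by
    by_contra h
    push Not at h
    exact h2 ((hp.out.pow_dvd_iff_le_factorization hne).2 h)
  have : (Nat.card G).factorization p = 1 := by omega
  rw [this, pow_one]

/-- number of elements of order `p` when the Sylow `p`-subgroups have order `p` -/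
theorem cnt_eq {p : ℕ} [hp : Fact p.Prime] (h1 : p ∣ Nat.card G) (h2 : ¬ p ^ 2 ∣ Nat.card G) :
    cnt G p = Nat.card (Sylow p G) * (p - 1) := by
  classical
  have hcard := card_sylow_eq h1 h2
  let f : {g : G // orderOf g = p} → Sylow p G := fun g =>
    Sylow.ofCard (zpowers (g : G)) (by
      rw [Nat.card_zpowers, g.2, ← (default : Sylow p G).card_eq_multiplicity]
      exact (hcard default).symm)
  have hf : ∀ (P : Sylow p G) (g : {g : G // orderOf g = p}), f g = P ↔ (g : G) ∈ P := by
    intro P g
    constructor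
    · rintro rfl
      exact mem_zpowers (g : G)
    · intro hg
      apply Sylow.ext
      have h3 : zpowers (g : G) ≤ (P : Subgroup G) := by
        rw [zpowers_le]; exact hg
      refine Subgroup.eq_of_le_of_card_ge (show ((f g : Sylow p G) : Subgroup G) ≤ P from h3) ?_
      rw [show Nat.card (P : Subgroup G) = p from hcard P]
      exact (hcard (f g)).ge
  have e1 : {g : G // orderOf g = p} ≃ Σ P : Sylow p G, {g : {g : G // orderOf g = p} // f g = P} :=
    (Equiv.sigmaFiberEquiv f).symm
  have e2 : ∀ P : Sylow p G, {g : {g : G // orderOf g = p} // f g = P} ≃ {x : P // x ≠ 1} := by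
    intro P
    refine ⟨fun g => ⟨⟨g.1.1, (hf P g.1).1 g.2⟩, ?_⟩, fun x => ⟨⟨x.1.1, ?_⟩, (hf P _).2 x.1.2⟩, ?_, ?_⟩
    · intro h
      have h5 : (g.1.1 : G) = 1 := congrArg Subtype.val h
      have h6 := g.1.2
      rw [h5, orderOf_one] at h6
      exact hp.out.one_lt.ne h6
    · have h5 : orderOf x.1 ∣ p := (_root_.orderOf_dvd_natCard _).trans (dvd_of_eq (hcard P))
      rw [← Subgroup.orderOf_coe] at h5
      rcases (Nat.dvd_prime hp.out).1 h5 with h6 | h6
      · exact absurd (Subtype.ext (orderOf_eq_one_iff.1 h6)) x.2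
      · exact h6
    · intro g; rfl
    · intro x; rfl
  have h3 : ∀ P : Sylow p G, Nat.card {x : P // x ≠ 1} = p - 1 := by
    intro P
    have := Fintype.ofFinite P
    rw [Nat.card_eq_fintype_card, Fintype.card_subtype_compl, ← Nat.card_eq_fintype_card]
    have h9 : Nat.card (P : Set G) = p := hcard P
    have h10 : Nat.card ↥P = p := h9
    rw [h10]
    simp
  have := Fintype.ofFinite (Sylow p G)
  calc cnt G p = Nat.card (Σ P : Sylow p G, {g : {g : G // orderOf g = p} // f g = P}) := Nat.card_congr e1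
    _ = ∑ P : Sylow p G, Nat.card {g : {g : G // orderOf g = p} // f g = P} := Nat.card_sigma
    _ = ∑ P : Sylow p G, (p - 1) := by
      apply Finset.sum_congr rfl
      intro P _
      rw [Nat.card_congr (e2 P), h3 P]
    _ = _ := by simp [Nat.card_eq_fintype_card]

/-- `cnt G p ≡ -1` -/
theorem dvd_cnt_add_one {p : ℕ} [hp : Fact p.Prime] (h1 : p ∣ Nat.card G) (h2 : ¬ p ^ 2 ∣ Nat.card G) :
    p ∣ cnt G p + 1 := by
  rw [cnt_eq h1 h2]
  have h3 : Nat.card (Sylow p G) ≡ 1 [MOD p] := card_sylow_modEq_one p G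
  have h4 : Nat.card (Sylow p G) * (p - 1) + 1 ≡ 1 * (p - 1) + 1 [MOD p] :=
    (h3.mul_right _).add_right 1
  have h5 : 1 * (p - 1) + 1 = p := by have := hp.out.one_lt; omega
  rw [h5] at h4
  exact (Nat.modEq_zero_iff_dvd.1 (h4.trans (Nat.modEq_zero_iff_dvd.2 dvd_rfl)))

/-- the elements of another order are permuted without fixed points -/
theorem dvd_cnt {p : ℕ} [hp : Fact p.Prime] (P : Sylow p G) (hPc : Nat.card P = p)
    (hP : centralizer ((P : Subgroup G) : Set G) = P) {n : ℕ} (h1 : n ≠ 1) (hn : n ≠ p) :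
    p ∣ cnt G n := by
  classical
  let A : MulAction P {g : G // orderOf g = n} :=
    { smul := fun x g => ⟨(x : G) * g * (x : G)⁻¹, by
        rw [show (x : G) * g * (x : G)⁻¹ = MulAut.conj (x : G) g from rfl, MulEquiv.orderOf_eq]
        exact g.2⟩
      one_smul := fun g => Subtype.ext (by
        change ((1 : P) : G) * g * ((1 : P) : G)⁻¹ = g
        simp)
      mul_smul := fun x y g => Subtype.ext (by
        change ((x * y : P) : G) * g * ((x * y : P) : G)⁻¹ = x * (y * g * (y : G)⁻¹) * (x : G)⁻¹
        push_cast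
        group) }
  have h2 := P.isPGroup'.card_modEq_card_fixedPoints {g : G // orderOf g = n}
  have h3 : IsEmpty (fixedPoints P {g : G // orderOf g = n}) := by
    constructor
    rintro ⟨g, hg⟩
    have h4 : (g : G) ∈ centralizer ((P : Subgroup G) : Set G) := by
      rw [mem_centralizer_iff]
      intro x hx
      have h5 := congrArg Subtype.val (hg ⟨x, hx⟩)
      change x * (g : G) * x⁻¹ = g at h5
      rw [mul_inv_eq_iff_eq_mul] at h5
      exact h5
    rw [hP] at h4
    have h6 : orderOf (⟨g, h4⟩ : P) ∣ p := (_root_.orderOf_dvd_natCard _).trans (dvd_of_eq hPc)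
    rw [← Subgroup.orderOf_coe] at h6
    change orderOf (g : G) ∣ p at h6
    rw [g.2] at h6
    rcases (Nat.dvd_prime hp.out).1 h6 with h7 | h7
    · exact h1 h7
    · exact hn h7
  rw [Nat.card_of_isEmpty (α := fixedPoints P {g : G // orderOf g = n})] at h2
  exact Nat.modEq_zero_iff_dvd.1 h2

end Sylow

section nse

variable {G : Type*} [Group G] [Finite G] {M : Type*} [Group M] [Finite M]

/-- **The number of elements of order `p` is read off from the set of same-order counts.** -/
theorem cnt_of_nse {p : ℕ} [hp : Fact p.Prime] (hp2 : p ≠ 2) (hcard : Nat.card G = Nat.card M)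
    (h1 : p ∣ Nat.card M) (h2 : ¬ p ^ 2 ∣ Nat.card M)
    (hM : ∀ P : Sylow p M, centralizer ((P : Subgroup M) : Set M) = P)
    (hnse : {c : ℕ | 0 < c ∧ ∃ n : ℕ, c = Nat.card {g : G // orderOf g = n}} =
      {c : ℕ | 0 < c ∧ ∃ n : ℕ, c = Nat.card {g : M // orderOf g = n}}) :
    cnt G p = cnt M p := by
  have hpos : 0 < cnt G p := by
    obtain ⟨g, hg⟩ := exists_prime_orderOf_dvd_card' (G := G) p (by rw [hcard]; exact h1)
    have : Nonempty {g : G // orderOf g = p} := ⟨⟨g, hg⟩⟩
    exact Nat.card_pos
  have h3 : cnt G p ∈ {c : ℕ | 0 < c ∧ ∃ n : ℕ, c = Nat.card {g : G // orderOf g = n}} :=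
    ⟨hpos, p, rfl⟩
  rw [hnse] at h3
  obtain ⟨-, n, hn⟩ := h3
  have h4 : p ∣ cnt G p + 1 := dvd_cnt_add_one (by rw [hcard]; exact h1) (by rw [hcard]; exact h2)
  by_cases hnp : n = p
  · rw [hnp] at hn; exact hn
  exfalso
  by_cases hn1 : n = 1
  · subst hn1
    have h5 : Nat.card {g : M // orderOf g = 1} = 1 := by
      have : Unique {g : M // orderOf g = 1} :=
        ⟨⟨⟨1, orderOf_one⟩⟩, fun g => Subtype.ext (orderOf_eq_one_iff.1 g.2)⟩
      exact Nat.card_unique
    rw [h5] at hn
    rw [hn] at h4
    exact hp2 ((Nat.prime_dvd_prime_iff_eq hp.out Nat.prime_two).1 h4)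
  · have P : Sylow p M := default
    have h5 : p ∣ cnt M n := dvd_cnt P (card_sylow_eq h1 h2 P) (hM P) hn1 hnp
    have h6 : cnt G p = cnt M n := hn
    rw [h6] at h4
    exact hp.out.one_lt.ne' (Nat.dvd_one.1 ((Nat.dvd_add_right h5).1 h4))

/-- **Hence so is the order of the normaliser of a Sylow `p`-subgroup.** -/
theorem card_normalizer_of_nse {p : ℕ} [hp : Fact p.Prime] (hp2 : p ≠ 2)
    (hcard : Nat.card G = Nat.card M)
    (h1 : p ∣ Nat.card M) (h2 : ¬ p ^ 2 ∣ Nat.card M)
    (hM : ∀ P : Sylow p M, centralizer ((P : Subgroup M) : Set M) = P)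
    (hnse : {c : ℕ | 0 < c ∧ ∃ n : ℕ, c = Nat.card {g : G // orderOf g = n}} =
      {c : ℕ | 0 < c ∧ ∃ n : ℕ, c = Nat.card {g : M // orderOf g = n}})
    (P : Sylow p G) (Q : Sylow p M) :
    Nat.card (normalizer ((P : Subgroup G) : Set G)) = Nat.card (normalizer ((Q : Subgroup M) : Set M)) := by
  have h3 := cnt_of_nse hp2 hcard h1 h2 hM hnse
  rw [cnt_eq (by rw [hcard]; exact h1) (by rw [hcard]; exact h2), cnt_eq h1 h2] at h3
  have h4 : Nat.card (Sylow p G) = Nat.card (Sylow p M) :=
    Nat.eq_of_mul_eq_mul_right (by have := hp.out.one_lt; omega) h3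
  have h5 : Nat.card (Sylow p G) = (normalizer ((P : Subgroup G) : Set G)).index :=
    P.card_eq_index_normalizer
  have h6 : Nat.card (Sylow p M) = (normalizer ((Q : Subgroup M) : Set M)).index :=
    Q.card_eq_index_normalizer
  have h7 := (normalizer ((P : Subgroup G) : Set G)).card_mul_index
  have h8 := (normalizer ((Q : Subgroup M) : Set M)).card_mul_index
  rw [← h5, hcard, h4] at h7
  rw [← h6, ← h7] at h8
  exact (Nat.eq_of_mul_eq_mul_right Nat.card_pos h8).symm

end nse

section simple

variable {G : Type*} [Group G] [Finite G]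

/-- a `p`-subgroup normalises a Sylow `s`-subgroup of a normal subgroup of order prime to `p` -/
theorem exists_sylow_normalised {p s : ℕ} [hp : Fact p.Prime] [hs : Fact s.Prime]
    (P K : Subgroup G) [hK : K.Normal] (hP : IsPGroup p P) (hpK : ¬ p ∣ Nat.card K) :
    ∃ S : Subgroup G, S ≤ K ∧ Nat.card S = s ^ (Nat.card K).factorization s ∧
      ∀ x ∈ P, ∀ g ∈ S, x * g * x⁻¹ ∈ S := by
  classical
  have h1 : ¬ p ∣ Nat.card (Sylow s K) := by
    intro h
    exact hpK (h.trans ((Sylow.card_eq_index_normalizer (default : Sylow s K)) ▸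
      (Subgroup.index_dvd_card _)))
  let φ : P →* MulAut K := (MulAut.conjNormal (H := K)).comp P.subtype
  let A : MulAction P (Sylow s K) := MulAction.compHom (Sylow s K) φ
  obtain ⟨S, hS⟩ := hP.nonempty_fixed_point_of_prime_not_dvd_card (Sylow s K) h1
  refine ⟨(S : Subgroup K).map K.subtype, Subgroup.map_subtype_le _, ?_, ?_⟩
  · rw [Subgroup.card_subtype, S.card_eq_multiplicity]
  · intro x hx g hg
    obtain ⟨g', hg', rfl⟩ := hg
    have h2 := hS ⟨x, hx⟩
    have h3 : φ ⟨x, hx⟩ g' ∈ (S : Subgroup K) := by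
      have h4 : (φ ⟨x, hx⟩) • S = S := h2
      have h5 : (φ ⟨x, hx⟩) • (g' : K) ∈ (φ ⟨x, hx⟩) • S := by
        exact Subgroup.smul_mem_pointwise_smul g' (φ ⟨x, hx⟩) (S : Subgroup K) hg'
      rw [h4] at h5
      exact h5
    refine ⟨φ ⟨x, hx⟩ g', h3, ?_⟩
    rfl


/-- the order of the subgroup of the elements of a subgroup `S` commuting with `P` -/
theorem card_modEq_card_inf_centralizer {p : ℕ} [hp : Fact p.Prime] (P S : Subgroup G)
    (hP : IsPGroup p P) (hS : ∀ x ∈ P, ∀ g ∈ S, x * g * x⁻¹ ∈ S) :
    Nat.card S ≡ Nat.card (S ⊓ centralizer (P : Set G) : Subgroup G) [MOD p] := by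
  classical
  let A : MulAction P S :=
    { smul := fun x g => ⟨(x : G) * g * (x : G)⁻¹, hS x x.2 g g.2⟩
      one_smul := fun g => Subtype.ext (by
        change ((1 : P) : G) * g * ((1 : P) : G)⁻¹ = g
        simp)
      mul_smul := fun x y g => Subtype.ext (by
        change ((x * y : P) : G) * g * ((x * y : P) : G)⁻¹ = x * (y * g * (y : G)⁻¹) * (x : G)⁻¹
        push_cast
        group) }
  have h2 := hP.card_modEq_card_fixedPoints S
  refine h2.trans (Nat.ModEq.symm ?_)
  have e : (S ⊓ centralizer (P : Set G) : Subgroup G) ≃ fixedPoints P S := by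
    refine ⟨fun g => ⟨⟨g, g.2.1⟩, ?_⟩, fun g => ⟨g.1.1, g.1.2, ?_⟩, fun g => rfl, fun g => rfl⟩
    · intro x
      apply Subtype.ext
      change (x : G) * g * (x : G)⁻¹ = g
      rw [mul_inv_eq_iff_eq_mul]
      exact (mem_centralizer_iff.1 g.2.2) x x.2
    · change (g.1 : G) ∈ centralizer (P : Set G)
      rw [mem_centralizer_iff]
      intro x hx
      have h5 := congrArg Subtype.val (g.2 ⟨x, hx⟩)
      change x * (g.1 : G) * x⁻¹ = g.1 at h5
      rw [mul_inv_eq_iff_eq_mul] at h5
      exact h5
  rw [Nat.card_congr e]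

/-- The arithmetic hypotheses on `N = |G|`, `p` and `r`. -/
structure Arith (N p r : ℕ) : Prop where
  dvd : p ∣ N
  sq : ¬ p ^ 2 ∣ N
  lt : r < p
  rsq : ¬ r ^ 2 ∣ N
  big : ¬ N ∣ p * r ^ 2
  ne : ∀ s a : ℕ, s.Prime → s ≠ p → s ≠ r → 0 < a → s ^ a ∣ N → ¬ s ^ a ≡ 1 [MOD p]

/-- **A normal subgroup of order prime to `p` has order dividing `r`.** -/
theorem card_dvd_of_normal {p r : ℕ} [hp : Fact p.Prime] [hr : Fact r.Prime]
    (hA : Arith (Nat.card G) p r)
    (P : Sylow p G) (hN : Nat.card (normalizer ((P : Subgroup G) : Set G)) = p * r)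
    (K : Subgroup G) [hK : K.Normal] (hpK : ¬ p ∣ Nat.card K) : Nat.card K ∣ r := by
  have hKG : Nat.card K ∣ Nat.card G := Subgroup.card_subgroup_dvd_card K
  have hK0 : Nat.card K ≠ 0 := Nat.card_pos.ne'
  have h1 : ∀ s : ℕ, s.Prime → s ∣ Nat.card K → s = r := by
    intro s hs hsK
    by_contra hsr
    have hsp : s ≠ p := by rintro rfl; exact hpK hsK
    have : Fact s.Prime := ⟨hs⟩
    obtain ⟨S, hSK, hSc, hSP⟩ := exists_sylow_normalised (s := s) (P : Subgroup G) K P.isPGroup' hpK
    have h2 := card_modEq_card_inf_centralizer (P : Subgroup G) S P.isPGroup' hSP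
    have h3 : Nat.card (S ⊓ centralizer ((P : Subgroup G) : Set G) : Subgroup G) = 1 := by
      have h4 : Nat.card (S ⊓ centralizer ((P : Subgroup G) : Set G) : Subgroup G) ∣ p * r := by
        rw [← hN]
        exact Subgroup.card_dvd_of_le (inf_le_right.trans (centralizer_le_normalizer _))
      have h5 : Nat.card (S ⊓ centralizer ((P : Subgroup G) : Set G) : Subgroup G) ∣
          s ^ (Nat.card K).factorization s := by
        rw [← hSc]
        exact Subgroup.card_dvd_of_le inf_le_left
      have h6 : Nat.Coprime (s ^ (Nat.card K).factorization s) (p * r) :=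
        Nat.Coprime.pow_left _ (Nat.Coprime.mul_right ((Nat.coprime_primes hs hp.out).2 hsp)
          ((Nat.coprime_primes hs hr.out).2 hsr))
      exact Nat.eq_one_of_dvd_coprimes h6 h5 h4
    rw [h3, hSc] at h2
    have h7 : 0 < (Nat.card K).factorization s := hs.factorization_pos_of_dvd hK0 hsK
    exact hA.ne s _ hs hsp hsr h7 ((Nat.ordProj_dvd _ _).trans hKG) h2
  have h2 : (Nat.card K).factorization r ≤ 1 := by
    by_contra h
    push Not at h
    exact hA.rsq (((hr.out.pow_dvd_iff_le_factorization hK0).2 h).trans hKG)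
  have h3 : Nat.card K = r ^ (Nat.card K).factorization r := by
    conv_lhs => rw [← Nat.prod_factorization_pow_eq_self hK0]
    apply Finsupp.prod_of_support_subset (s := {r}) _ _ _ (by simp) |>.trans
    · simp
    · intro s hs
      have h4 := Nat.support_factorization (Nat.card K) ▸ hs
      rw [Finset.mem_singleton]
      exact h1 s (Nat.prime_of_mem_primeFactors h4) (Nat.dvd_of_mem_primeFactors h4)
  rw [h3]
  calc r ^ (Nat.card K).factorization r ∣ r ^ 1 := Nat.pow_dvd_pow r h2
    _ = r := pow_one r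

omit [Finite G] in
theorem card_mul_relIndex_of_le {H K : Subgroup G} (h : H ≤ K) :
    Nat.card H * H.relIndex K = Nat.card K := by
  rw [← Subgroup.relIndex_bot_left, ← Subgroup.relIndex_bot_left]
  exact Subgroup.relIndex_mul_relIndex _ _ _ bot_le h

omit [Finite G] in
/-- A normal `p'`-subgroup of index a power of `p` is characteristic. -/
theorem characteristic_of_index {K : Type*} [Group K] [Finite K] {p : ℕ} (hp : p.Prime)
    {L : Subgroup K} [hL : L.Normal] (h1 : ¬ p ∣ Nat.card L) (h2 : ∃ k, L.index = p ^ k) :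
    L.Characteristic := by
  obtain ⟨k, hk⟩ := h2
  have h3 : ∀ x : K, x ∈ L ↔ (orderOf x).Coprime p := by
    intro x
    constructor
    · intro hx
      have h4 : orderOf x ∣ Nat.card L := Subgroup.orderOf_dvd_natCard _ hx
      have h5 : (Nat.card L).Coprime p := ((Nat.Prime.coprime_iff_not_dvd hp).2 h1).symm
      exact Nat.Coprime.coprime_dvd_left h4 h5
    · intro hx
      rw [← QuotientGroup.eq_one_iff, ← orderOf_eq_one_iff]
      have h4 : orderOf (x : K ⧸ L) ∣ p ^ k := by
        rw [← hk, Subgroup.index]; exact _root_.orderOf_dvd_natCard _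
      have h5 : orderOf (x : K ⧸ L) ∣ orderOf x := orderOf_map_dvd (QuotientGroup.mk' L) x
      exact Nat.eq_one_of_dvd_coprimes (hx.pow_right k) h5 h4
  rw [Subgroup.characteristic_iff_comap_eq]
  intro φ
  ext x
  rw [Subgroup.mem_comap, h3, h3]
  change (orderOf (φ x)).Coprime p ↔ _
  rw [MulEquiv.orderOf_eq]

/-- No normal subgroup `K ≤ G` with `N_K(P) ≤ C_K(P)`. -/
theorem false_of_le_centralizer {p r : ℕ} [hp : Fact p.Prime] [hr : Fact r.Prime]
    (hA : Arith (Nat.card G) p r)
    (P : Sylow p G) (hN : Nat.card (normalizer ((P : Subgroup G) : Set G)) = p * r)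
    (K : Subgroup G) [hK : K.Normal] (hKi : K.index ∣ r) (Q : Sylow p K)
    (hQ : normalizer ((Q : Subgroup K) : Set K) ≤ centralizer ((Q : Subgroup K) : Set K)) : False := by
  have h1 := MonoidHom.ker_transferSylow_isComplement' Q hQ
  have h2 := MonoidHom.not_dvd_card_ker_transferSylow Q hQ
  set L := (MonoidHom.transferSylow Q hQ).ker with hL
  have h1i : L.index = Nat.card Q := h1.symm.index_eq_card
  have hchar : L.Characteristic := characteristic_of_index hp.out h2
    ⟨(Nat.card K).factorization p, by rw [h1i]; exact Q.card_eq_multiplicity⟩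
  have h3 : (L.map K.subtype).Normal := inferInstance
  have h4 : Nat.card (L.map K.subtype) = Nat.card L := Subgroup.card_subtype K L
  have h5 := card_dvd_of_normal hA P hN (L.map K.subtype) (by rw [h4]; exact h2)
  rw [h4] at h5
  have h6 : Nat.card L * Nat.card Q = Nat.card K := h1.card_mul_card
  have hc : Nat.card P = p := card_sylow_eq hA.dvd hA.sq P
  have h7 : Nat.card Q ∣ p := by
    have h8 : IsPGroup p ((Q : Subgroup K).map K.subtype) := Q.isPGroup'.map _
    obtain ⟨R, hR⟩ := h8.exists_le_sylow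
    have h9 : Nat.card R = p := card_sylow_eq hA.dvd hA.sq R
    have h10 := Subgroup.card_dvd_of_le hR
    rw [Subgroup.card_subtype K, h9] at h10
    exact h10
  apply hA.big
  rw [← K.card_mul_index, ← h6]
  calc Nat.card L * Nat.card Q * K.index ∣ r * p * r := Nat.mul_dvd_mul (Nat.mul_dvd_mul h5 h7) hKi
    _ = p * r ^ 2 := by ring

omit [Finite G] in
theorem le_centralizer_of_card_prime {p : ℕ} [hp : Fact p.Prime] {P : Subgroup G}
    (hP : Nat.card P = p) : P ≤ centralizer (P : Set G) := by
  have : IsCyclic P := isCyclic_of_prime_card hP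
  intro x hx
  rw [mem_centralizer_iff]
  intro y hy
  let _ : CommGroup P := IsCyclic.commGroup
  exact congrArg Subtype.val (mul_comm (⟨y, hy⟩ : P) ⟨x, hx⟩)

/-- **`G` is simple.** -/
theorem isSimpleGroup {p r : ℕ} [hp : Fact p.Prime] [hr : Fact r.Prime]
    (hA : Arith (Nat.card G) p r)
    (P : Sylow p G) (hN : Nat.card (normalizer ((P : Subgroup G) : Set G)) = p * r) :
    IsSimpleGroup G := by
  have hP : Nat.card P = p := card_sylow_eq hA.dvd hA.sq P
  have hnt : Nontrivial G := by
    by_contra h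
    rw [not_nontrivial_iff_subsingleton] at h
    have := Nat.card_of_subsingleton (1 : G)
    have h2 := hA.dvd
    rw [this] at h2
    exact hp.out.one_lt.ne' (Nat.dvd_one.1 h2)
  refine ⟨fun K hK => ?_⟩
  by_cases hpK : p ∣ Nat.card K
  · right
    have hPK : (P : Subgroup G) ≤ K := by
      obtain ⟨x, hx⟩ := exists_prime_orderOf_dvd_card' (G := K) p hpK
      have h2 : IsPGroup p (zpowers (x : G)) := IsPGroup.of_card (n := 1) (by
        rw [Nat.card_zpowers, Subgroup.orderOf_coe, hx, pow_one])
      obtain ⟨R, hR⟩ := h2.exists_le_sylow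
      have h3 : Nat.card R = p := card_sylow_eq hA.dvd hA.sq R
      have h4 : zpowers (x : G) = R := Subgroup.eq_of_le_of_card_ge hR (by
        rw [Nat.card_zpowers, Subgroup.orderOf_coe, hx]; exact h3.le)
      have h5 : (R : Subgroup G) ≤ K := by
        rw [← h4, zpowers_le]; exact x.2
      obtain ⟨g, rfl⟩ := exists_smul_eq G R P
      intro y hy
      rw [Sylow.coe_subgroup_smul, Subgroup.mem_smul_pointwise_iff_exists] at hy
      obtain ⟨z, hz, rfl⟩ := hy
      exact hK.conj_mem z (h5 hz) g
    have h1 : normalizer ((P : Subgroup G) : Set G) ⊔ K = ⊤ := Sylow.normalizer_sup_eq_top' P hPK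
    have h2 : K.index = K.relIndex (normalizer ((P : Subgroup G) : Set G)) := by
      rw [← Subgroup.relIndex_top_right, ← h1, Subgroup.relIndex_sup_right]
    have h3 : Nat.card (K ⊓ normalizer ((P : Subgroup G) : Set G) : Subgroup G) * K.index = p * r := by
      rw [h2, ← hN, ← Subgroup.inf_relIndex_right]
      exact card_mul_relIndex_of_le inf_le_right
    have h4 : (P : Subgroup G) ≤ K ⊓ normalizer ((P : Subgroup G) : Set G) := le_inf hPK le_normalizer
    obtain ⟨c, hc⟩ : p ∣ Nat.card (K ⊓ normalizer ((P : Subgroup G) : Set G) : Subgroup G) :=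
      (dvd_of_eq hP.symm).trans (Subgroup.card_dvd_of_le h4)
    have h5 : c * K.index = r := by
      rw [hc, mul_assoc] at h3
      exact Nat.eq_of_mul_eq_mul_left hp.out.pos h3
    rcases (Nat.dvd_prime hr.out).1 (Dvd.intro_left _ h5) with h6 | h6
    · exact Subgroup.index_eq_one.1 h6
    exfalso
    have h7 : c = 1 := by
      rw [h6] at h5
      exact Nat.eq_of_mul_eq_mul_right hr.out.pos (by rw [h5, one_mul])
    have h8 : (P : Subgroup G) = K ⊓ normalizer ((P : Subgroup G) : Set G) :=
      Subgroup.eq_of_le_of_card_ge h4 (by rw [hc, h7, mul_one]; exact hP.ge)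
    have h9 := le_centralizer_of_card_prime hP
    refine false_of_le_centralizer hA P hN K (by rw [h6]) (P.subtype hPK) ?_
    intro x hx
    have h10 : (x : G) ∈ normalizer ((P : Subgroup G) : Set G) := by
      rw [Subgroup.mem_normalizer_iff] at hx ⊢
      intro y
      constructor
      · intro hy
        have := (hx ⟨y, hPK hy⟩).1 (by
          rw [Sylow.coe_subtype, Subgroup.mem_subgroupOf]; exact hy)
        rw [Sylow.coe_subtype, Subgroup.mem_subgroupOf] at this
        exact this
      · intro hy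
        have hyK : y ∈ K := by
          have h11 := hK.conj_mem _ (hPK hy) (x : G)⁻¹
          simpa [mul_assoc] using h11
        have := (hx ⟨y, hyK⟩).2 (by
          rw [Sylow.coe_subtype, Subgroup.mem_subgroupOf]; exact hy)
        rw [Sylow.coe_subtype, Subgroup.mem_subgroupOf] at this
        exact this
    have h11 : (x : G) ∈ (P : Subgroup G) := by rw [h8]; exact ⟨x.2, h10⟩
    rw [mem_centralizer_iff]
    intro y hy
    have hy' : (y : G) ∈ (P : Subgroup G) := by
      have h12 : y ∈ ((P.subtype hPK : Sylow p K) : Subgroup K) := hy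
      rw [Sylow.coe_subtype, Subgroup.mem_subgroupOf] at h12
      exact h12
    apply Subtype.ext
    exact (mem_centralizer_iff.1 (h9 h11)) y hy'
  · left
    have h1 := card_dvd_of_normal hA P hN K hpK
    rcases (Nat.dvd_prime hr.out).1 h1 with h2 | h2
    · exact Subgroup.card_eq_one.1 h2
    exfalso
    -- `K` is centralised by `P`
    have h3 := card_modEq_card_inf_centralizer (P : Subgroup G) K P.isPGroup'
      (fun x _ g hg => hK.conj_mem g hg x)
    have h4 : Nat.card (K ⊓ centralizer ((P : Subgroup G) : Set G) : Subgroup G) ∣ r := by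
      rw [← h2]; exact Subgroup.card_dvd_of_le inf_le_left
    have h5 : Nat.card (K ⊓ centralizer ((P : Subgroup G) : Set G) : Subgroup G) = r := by
      rcases (Nat.dvd_prime hr.out).1 h4 with h6 | h6
      · rw [h6, h2] at h3
        exfalso
        have h7 := Nat.ModEq.eq_of_lt_of_lt h3 hA.lt hp.out.one_lt
        exact hr.out.one_lt.ne' h7
      · exact h6
    have h6 : K ≤ centralizer ((P : Subgroup G) : Set G) := by
      have h7 : K ⊓ centralizer ((P : Subgroup G) : Set G) = K :=
        Subgroup.eq_of_le_of_card_ge inf_le_left (by rw [h5, h2])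
      rw [← h7]; exact inf_le_right
    have h7 : (P : Subgroup G) ≤ centralizer ((P : Subgroup G) : Set G) :=
      le_centralizer_of_card_prime hP
    have h8 : normalizer ((P : Subgroup G) : Set G) ≤ centralizer ((P : Subgroup G) : Set G) := by
      have h9 : p * r ∣ Nat.card (centralizer ((P : Subgroup G) : Set G)) := by
        apply Nat.Coprime.mul_dvd_of_dvd_of_dvd
        · exact (Nat.coprime_primes hp.out hr.out).2 hA.lt.ne'
        · exact (dvd_of_eq hP.symm).trans (Subgroup.card_dvd_of_le h7)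
        · rw [← h2]; exact Subgroup.card_dvd_of_le h6
      have h10 := Subgroup.eq_of_le_of_card_ge (centralizer_le_normalizer ((P : Subgroup G) : Set G)) (by
        rw [hN]; exact Nat.le_of_dvd Nat.card_pos h9)
      rw [h10]
    have e : (⊤ : Subgroup G).index ∣ r := by rw [Subgroup.index_top]; exact one_dvd _
    obtain ⟨L, hLn, hLc, hLi⟩ : ∃ L : Subgroup G, L.Normal ∧ ¬ p ∣ Nat.card L ∧ L.index = Nat.card P :=
      ⟨_, inferInstance, MonoidHom.not_dvd_card_ker_transferSylow P h8,
        (MonoidHom.ker_transferSylow_isComplement' P h8).symm.index_eq_card⟩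
    have h11 := card_dvd_of_normal hA P hN L hLc
    apply hA.big
    rw [← L.card_mul_index, hLi]
    calc Nat.card L * Nat.card P ∣ r * p := Nat.mul_dvd_mul h11 (dvd_of_eq hP)
      _ ∣ p * r ^ 2 := ⟨r, by ring⟩

end simple

/-- **`G` is simple**, from the order and the set of same-order element counts of `M`. -/
theorem isSimpleGroup_of_nse {G : Type*} [Group G] [Finite G] {M : Type*} [Group M] [Finite M]
    {p r : ℕ} [hp : Fact p.Prime] [hr : Fact r.Prime]
    (hcard : Nat.card G = Nat.card M) (hA : Arith (Nat.card M) p r)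
    (hM : ∀ P : Sylow p M, centralizer ((P : Subgroup M) : Set M) = P)
    (hN : ∀ P : Sylow p M, Nat.card (normalizer ((P : Subgroup M) : Set M)) = p * r)
    (hnse : {c : ℕ | 0 < c ∧ ∃ n : ℕ, c = Nat.card {g : G // orderOf g = n}} =
      {c : ℕ | 0 < c ∧ ∃ n : ℕ, c = Nat.card {g : M // orderOf g = n}}) :
    IsSimpleGroup G := by
  have hp2 : p ≠ 2 := by
    rintro rfl
    have := hr.out.two_le
    have := hA.lt
    omega
  refine isSimpleGroup (p := p) (r := r) (by rw [hcard]; exact hA) default ?_
  rw [card_normalizer_of_nse hp2 hcard hA.dvd hA.sq hM hnse default default]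
  exact hN default

end Cfsg.Agent.H404.Nse
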