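import Mathlib

/-!
# Orders of elements of a semidirect product with an elementary abelian 2-group

`X` a group acting on an additive group `M` with `m + m = 0`; elements of `M ⋊ X`.
-/

set_option autoImplicit false

namespace Cfsg.Agent.H404.Semi

variable {X M : Type*} [Group X] [AddCommGroup M] [DistribMulAction X M]

/-- the action of `X` on `M`, multiplicatively -/
def phi (X M : Type*) [Group X] [AddCommGroup M] [DistribMulAction X M] :
    X →* MulAut (Multiplicative M) where
  toFun x := AddEquiv.toMultiplicative (DistribMulAction.toAddEquiv M x)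
  map_one' := by
    ext m
    exact congrArg Multiplicative.ofAdd (one_smul X (Multiplicative.toAdd m))
  map_mul' x y := by
    ext m
    exact congrArg Multiplicative.ofAdd (mul_smul x y (Multiplicative.toAdd m))

theorem phi_apply (x : X) (m : M) : phi X M x (Multiplicative.ofAdd m) = Multiplicative.ofAdd (x • m) := rfl

/-- the group `M ⋊ X` -/
abbrev G (X M : Type*) [Group X] [AddCommGroup M] [DistribMulAction X M] : Type _ :=
  SemidirectProduct (Multiplicative M) X (phi X M)

/-- the element `(v, x)` -/
def el (v : M) (x : X) : G X M := ⟨Multiplicative.ofAdd v, x⟩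

theorem exists_el (g : G X M) : ∃ v x, g = el v x := ⟨Multiplicative.toAdd g.left, g.right, rfl⟩

theorem el_mul (v w : M) (x y : X) : el v x * el w y = el (v + x • w) (x * y) := rfl

theorem el_one : el (0 : M) (1 : X) = 1 := rfl

theorem el_inj {v w : M} {x y : X} (h : el v x = el w y) : v = w ∧ x = y :=
  ⟨congrArg (fun g : G X M => Multiplicative.toAdd g.left) h, congrArg (fun g : G X M => g.right) h⟩

theorem el_pow (v : M) (x : X) (n : ℕ) :
    el v x ^ n = el (∑ i ∈ Finset.range n, x ^ i • v) (x ^ n) := by
  induction n with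
  | zero => simp [el_one]
  | succ n ih => rw [pow_succ, ih, el_mul, Finset.sum_range_succ, pow_succ]

theorem orderOf_dvd (v : M) (x : X) : orderOf x ∣ orderOf (el v x) := by
  apply orderOf_dvd_of_pow_eq_one
  have h := pow_orderOf_eq_one (el v x)
  rw [el_pow, ← el_one] at h
  exact (el_inj h).2

theorem pow_orderOf (v : M) (x : X) :
    el v x ^ orderOf x = el (∑ i ∈ Finset.range (orderOf x), x ^ i • v) 1 := by
  rw [el_pow, pow_orderOf_eq_one]

theorem orderOf_eq_of_eq_zero (v : M) (x : X)
    (h : ∑ i ∈ Finset.range (orderOf x), x ^ i • v = 0) : orderOf (el v x) = orderOf x := by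
  apply Nat.dvd_antisymm _ (orderOf_dvd v x)
  apply orderOf_dvd_of_pow_eq_one
  rw [pow_orderOf, h, el_one]

theorem orderOf_eq_of_ne_zero (hM : ∀ m : M, m + m = 0) (v : M) (x : X)
    (h : ∑ i ∈ Finset.range (orderOf x), x ^ i • v ≠ 0) : orderOf (el v x) = orderOf x * 2 := by
  obtain ⟨k, hk⟩ := orderOf_dvd v x
  have h1 : orderOf (el v x) ∣ orderOf x * 2 := by
    apply orderOf_dvd_of_pow_eq_one
    rw [pow_mul, pow_orderOf, pow_two, el_mul, one_smul, hM, mul_one, el_one]
  by_cases h0 : orderOf x = 0
  · rw [hk, h0]; simp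
  have h2 : k ∣ 2 := by
    rw [hk] at h1
    exact Nat.dvd_of_mul_dvd_mul_left (Nat.pos_of_ne_zero h0) h1
  rcases (Nat.dvd_prime Nat.prime_two).1 h2 with rfl | rfl
  · exfalso
    apply h
    have h3 := pow_orderOf_eq_one (el v x)
    rw [hk, mul_one, pow_orderOf, ← el_one] at h3
    exact (el_inj h3).1
  · exact hk

end Cfsg.Agent.H404.Semi
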